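import Mathlib

/-!
# LEMMA LN_q (#18305): root groups of order `q` in the radical of a point stabiliser

`X` acts on the finite elementary abelian 2-group `M`; `c ≤ M` has order `q`; `O` is a normal 2-subgroup of the
pointwise stabiliser `X_c` and contains a root group: a group of order `q` all of whose elements `≠ 1` have the same
fixed points `f` (the axis, of index `q`) and the same commutator `e` (the centre, of order `q`).  The conjugates of
`e` and `c` are `TI` with respect to the axes, the axes have no common zero, and `|X_e| ≤ |X_c|`.  Then `e = c`.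

For `q = 2` this is LEMMA LN of helper848.  No `F_q`-structure, no list of groups.

A root group is represented by the additive group `B` of the maps `m ↦ [m,b]`.
-/

set_option autoImplicit false

namespace Cfsg.Agent.Omega.NOThreeL.LNqBasic

open MulAction
open scoped Pointwise

variable {X M : Type*} [Group X] [AddCommGroup M] [DistribMulAction X M]

/-- `x` acts as `1 + β`. -/
def Re (x : X) (β : M →+ M) : Prop := ∀ m : M, x • m = m + β m

/-- Conjugation on `End M`. -/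
def cjm (x : X) : (M →+ M) →+ (M →+ M) where
  toFun β := (DistribSMul.toAddMonoidHom M x).comp (β.comp (DistribSMul.toAddMonoidHom M x⁻¹))
  map_zero' := by ext m; simp
  map_add' a b := by ext m; simp

@[simp] theorem cjm_apply (x : X) (β : M →+ M) (m : M) : cjm x β m = x • β (x⁻¹ • m) := rfl

/-- Composition with a fixed map. -/
def prec (β : M →+ M) : (M →+ M) →+ (M →+ M) where
  toFun δ := δ.comp β
  map_zero' := by ext m; simp
  map_add' a b := by ext m; simp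

@[simp] theorem prec_apply (β δ : M →+ M) (m : M) : prec β δ m = δ (β m) := rfl

/-- The root group `B` with axis `h` and centre `w`. -/
structure Rt (X : Type*) {M : Type*} [Group X] [AddCommGroup M] [DistribMulAction X M] (h w : AddSubgroup M)
    (B : AddSubgroup (M →+ M)) : Prop where
  ex : ∀ β ∈ B, ∃ x : X, Re x β
  k0 : ∀ β ∈ B, ∀ m ∈ h, β m = 0
  k1 : ∀ β ∈ B, ∀ m, β m = 0 → m ∉ h → β = 0
  ran : ∀ β ∈ B, ∀ m, β m ∈ w
  ev : ∀ m, m ∉ h → ∀ r ∈ w, ∃ β ∈ B, β m = r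
  le : w ≤ h

theorem Rt.conj {h w : AddSubgroup M} {B : AddSubgroup (M →+ M)} (R : Rt X h w B) (x : X) :
    Rt X (x • h) (x • w) (B.map (cjm x)) := by
  refine ⟨?_, ?_, ?_, ?_, ?_, ?_⟩
  · rintro _ ⟨β, hβ, rfl⟩
    obtain ⟨y, hy⟩ := R.ex β hβ
    refine ⟨x * y * x⁻¹, fun m => ?_⟩
    rw [mul_smul, mul_smul, hy, smul_add, smul_inv_smul, cjm_apply]
  · rintro _ ⟨β, hβ, rfl⟩ m hm
    rw [AddSubgroup.mem_pointwise_smul_iff_inv_smul_mem] at hm
    rw [cjm_apply, R.k0 β hβ _ hm, smul_zero]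
  · rintro _ ⟨β, hβ, rfl⟩ m hm hmh
    rw [AddSubgroup.mem_pointwise_smul_iff_inv_smul_mem] at hmh
    rw [cjm_apply, smul_eq_zero_iff_eq] at hm
    rw [R.k1 β hβ _ hm hmh, map_zero]
  · rintro _ ⟨β, hβ, rfl⟩ m
    rw [cjm_apply]
    exact AddSubgroup.smul_mem_pointwise_smul _ _ _ (R.ran β hβ _)
  · intro m hm r hr
    rw [AddSubgroup.mem_pointwise_smul_iff_inv_smul_mem] at hm hr
    obtain ⟨β, hβ, hβr⟩ := R.ev _ hm _ hr
    exact ⟨_, ⟨β, hβ, rfl⟩, by rw [cjm_apply, hβr, smul_inv_smul]⟩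
  · exact AddSubgroup.pointwise_smul_le_pointwise_smul_iff.2 R.le

/-- The class of root groups: axes `Φ` (one orbit), centres `E`. -/
structure Cls (X : Type*) {M : Type*} [Group X] [AddCommGroup M] [DistribMulAction X M]
    (Φ E : Set (AddSubgroup M)) (q : ℕ) : Prop where
  two : ∀ m : M, m + m = 0
  inv : ∀ (x : X), ∀ h ∈ Φ, x • h ∈ Φ
  trans : ∀ h ∈ Φ, ∀ h' ∈ Φ, ∃ x : X, x • h = h'
  einv : ∀ (x : X), ∀ w ∈ E, x • w ∈ E
  idx : ∀ h ∈ Φ, h.index = q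
  cw : ∀ w ∈ E, Nat.card w = q
  T : ∀ w ∈ E, ∀ h ∈ Φ, w ≤ h ∨ Disjoint w h
  TI : ∀ w ∈ E, ∀ w' ∈ E, w = w' ∨ Disjoint w w'
  zero : ∀ m : M, (∀ h ∈ Φ, m ∈ h) → m = 0
  one_lt : 1 < q

/-- `h` is an axis with centre `w`. -/
def R (X : Type*) {M : Type*} [Group X] [AddCommGroup M] [DistribMulAction X M] (Φ E : Set (AddSubgroup M))
    (h w : AddSubgroup M) : Prop := h ∈ Φ ∧ w ∈ E ∧ ∃ B, Rt X h w B

/-- adjacency of axes -/
def Adj (X : Type*) {M : Type*} [Group X] [AddCommGroup M] [DistribMulAction X M] (Φ E : Set (AddSubgroup M))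
    (h h' : AddSubgroup M) : Prop := h' ∈ Φ ∧ ∃ w, R X Φ E h w ∧ ¬ w ≤ h'

/-- two subgroups of complementary order -/
theorem split [Finite M] {w h : AddSubgroup M} (hd : Disjoint w h) (hc : Nat.card w = h.index) (m : M) :
    ∃ r ∈ w, ∃ s ∈ h, m = r + s := by
  classical
  let φ : w → M ⧸ h := fun r => ((r : M) : M ⧸ h)
  have hφ : Function.Injective φ := by
    intro a b hab
    have h1 : (-(a : M) + b) ∈ h := QuotientAddGroup.eq.1 hab
    have h2 : (-(a : M) + b) ∈ w := w.add_mem (w.neg_mem a.2) b.2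
    have h3 : (-(a : M) + b) = 0 := by
      have : (-(a : M) + b) ∈ w ⊓ h := ⟨h2, h1⟩
      rwa [hd.eq_bot, AddSubgroup.mem_bot] at this
    apply Subtype.ext
    exact (neg_add_eq_zero.1 h3)
  have hcard : Nat.card w = Nat.card (M ⧸ h) := hc
  have hsurj : Function.Surjective φ := ((Nat.bijective_iff_injective_and_card φ).2 ⟨hφ, hcard⟩).2
  obtain ⟨r, hr⟩ := hsurj (m : M ⧸ h)
  have h1 : (-(r : M) + m) ∈ h := QuotientAddGroup.eq.1 hr
  exact ⟨r, r.2, -(r : M) + m, h1, by abel⟩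

namespace Cls

variable {Φ E : Set (AddSubgroup M)} {q : ℕ}

section

variable (D : Cls X Φ E q)
include D

theorem neg_eq (m : M) : -m = m := neg_eq_of_add_eq_zero_left (D.two m)

theorem ne_bot {w : AddSubgroup M} (hw : w ∈ E) : w ≠ ⊥ := by
  rintro rfl
  have h1 := D.cw _ hw
  have h2 := D.one_lt
  rw [AddSubgroup.card_bot] at h1
  omega

theorem ne_top {h : AddSubgroup M} (hh : h ∈ Φ) : ∃ m, m ∉ h := by
  by_contra hcon
  push Not at hcon
  have h0 : h = ⊤ := by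
    rw [eq_top_iff]
    intro m _
    exact hcon m
  have h1 := D.idx _ hh
  have h2 := D.one_lt
  rw [h0, AddSubgroup.index_top] at h1
  omega

theorem disj {w h : AddSubgroup M} (hw : w ∈ E) (hh : h ∈ Φ) (hn : ¬ w ≤ h) {m : M} (h1 : m ∈ w) (h2 : m ∈ h) :
    m = 0 := by
  have h3 := (D.T w hw h hh).resolve_left hn
  have h4 : m ∈ w ⊓ h := ⟨h1, h2⟩
  rwa [h3.eq_bot, AddSubgroup.mem_bot] at h4

theorem exists_mem {w : AddSubgroup M} (hw : w ∈ E) : ∃ m ∈ w, m ≠ 0 := by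
  obtain ⟨m, hm⟩ := AddSubgroup.ne_bot_iff_exists_ne_zero.1 (D.ne_bot hw)
  exact ⟨m, m.2, fun h => hm (Subtype.ext h)⟩

/-- a member of `E` which is not in some axis -/
theorem exists_not_le {w : AddSubgroup M} (hw : w ∈ E) : ∃ g ∈ Φ, ¬ w ≤ g := by
  obtain ⟨m, hm, hm0⟩ := D.exists_mem hw
  by_contra hcon
  push Not at hcon
  exact hm0 (D.zero m fun h hh => hcon h hh hm)

theorem exists_ne {h w : AddSubgroup M} {B : AddSubgroup (M →+ M)} (hh : h ∈ Φ) (hw : w ∈ E) (r : Rt X h w B) :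
    ∃ β ∈ B, β ≠ 0 := by
  obtain ⟨m, hm⟩ := D.ne_top hh
  obtain ⟨r0, hr0⟩ := AddSubgroup.ne_bot_iff_exists_ne_zero.1 (D.ne_bot hw)
  obtain ⟨β, hβ, hβm⟩ := r.ev m hm r0 r0.2
  refine ⟨β, hβ, ?_⟩
  rintro rfl
  apply hr0
  apply Subtype.ext
  rw [← hβm]
  rfl

omit D in
/-- elements of a root group fix the axis pointwise -/
theorem Rt.smul_eq {h w : AddSubgroup M} {B : AddSubgroup (M →+ M)} (r : Rt X h w B) {β : M →+ M} (hβ : β ∈ B)
    {x : X} (hx : Re x β) {m : M} (hm : m ∈ h) : x • m = m := by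
  rw [hx, r.k0 β hβ m hm, add_zero]

omit D in
theorem Rt.inv_smul_eq {h w : AddSubgroup M} {B : AddSubgroup (M →+ M)} (r : Rt X h w B) {β : M →+ M} (hβ : β ∈ B)
    {x : X} (hx : Re x β) {m : M} (hm : m ∈ h) : x⁻¹ • m = m := by
  rw [inv_smul_eq_iff, Rt.smul_eq r hβ hx hm]

omit D in
theorem Rt.smul_sub {h w v : AddSubgroup M} {B : AddSubgroup (M →+ M)} (r : Rt X h w B) {β : M →+ M} (hβ : β ∈ B)
    {x : X} (hx : Re x β) (hv : v ≤ h) : x • v = v := by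
  ext m
  rw [AddSubgroup.mem_pointwise_smul_iff_inv_smul_mem]
  constructor
  · intro h1
    have h2 := Rt.smul_eq r hβ hx (hv h1)
    rw [smul_inv_smul] at h2
    rwa [h2]
  · intro h1
    rwa [Rt.inv_smul_eq r hβ hx (hv h1)]

omit D in
/-- `m ∈ u ∩ h^b` implies `m ∈ h` -/
theorem Rt.mem_of {u w h : AddSubgroup M} {B : AddSubgroup (M →+ M)} (r : Rt X u w B) {β : M →+ M} (hβ : β ∈ B)
    {x : X} (hx : Re x β) {m : M} (hm : m ∈ u) (hm' : m ∈ x • h) : m ∈ h := by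
  rw [AddSubgroup.mem_pointwise_smul_iff_inv_smul_mem, Rt.inv_smul_eq r hβ hx hm] at hm'
  exact hm'

theorem R.conj {h w : AddSubgroup M} (r : R X Φ E h w) (x : X) : R X Φ E (x • h) (x • w) := by
  obtain ⟨h1, h2, B, hB⟩ := r
  exact ⟨D.inv x h h1, D.einv x w h2, _, hB.conj x⟩

theorem adj_conj {h h' : AddSubgroup M} (a : Adj X Φ E h h') (x : X) : Adj X Φ E (x • h) (x • h') := by
  obtain ⟨h1, w, hw, hn⟩ := a
  exact ⟨D.inv x h' h1, x • w, Cls.R.conj D hw x, fun h => hn (AddSubgroup.pointwise_smul_le_pointwise_smul_iff.1 h)⟩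

end

section fin

variable [Finite M] (D : Cls X Φ E q)
include D

theorem plane_cov {u w h : AddSubgroup M} {B : AddSubgroup (M →+ M)} (r : Rt X u w B) (hw : w ∈ E) (hh : h ∈ Φ)
    (hn : ¬ w ≤ h) {m : M} (hm : m ∉ u) : ∃ β ∈ B, ∃ s ∈ h, m = s + β s := by
  have hd := (D.T w hw h hh).resolve_left hn
  obtain ⟨r0, hr0, s, hs, rfl⟩ := split hd ((D.cw w hw).trans (D.idx h hh).symm) m
  have hsu : s ∉ u := fun h1 => hm (u.add_mem (r.le hr0) h1)
  obtain ⟨β, hβ, hβs⟩ := r.ev s hsu r0 hr0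
  exact ⟨β, hβ, s, hs, by rw [hβs, add_comm]⟩

/-- PLANE -/
theorem plane {u w h y : AddSubgroup M} {B : AddSubgroup (M →+ M)} (r : Rt X u w B) (hw : w ∈ E) (hh : h ∈ Φ)
    (hn : ¬ w ≤ h) (hT : ∀ g ∈ Φ, y ≤ g ∨ Disjoint y g) (hy : ∃ m ∈ y, m ≠ 0) (hyu : Disjoint y u)
    (hyh : Disjoint y h) : ∃ β ∈ B, β ≠ 0 ∧ ∃ x : X, Re x β ∧ y ≤ x • h := by
  obtain ⟨m, hm, hm0⟩ := hy
  have hmu : m ∉ u := fun h1 => by
    have : m ∈ y ⊓ u := ⟨hm, h1⟩
    rw [hyu.eq_bot, AddSubgroup.mem_bot] at this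
    exact hm0 this
  obtain ⟨β, hβ, s, hs, hms⟩ := D.plane_cov r hw hh hn hmu
  obtain ⟨x, hx⟩ := r.ex β hβ
  have hmx : m ∈ x • h := by
    rw [hms, ← hx s]
    exact AddSubgroup.smul_mem_pointwise_smul _ _ _ hs
  refine ⟨β, hβ, ?_, x, hx, ?_⟩
  · rintro rfl
    have : m ∈ y ⊓ h := ⟨hm, by rw [hms]; simpa using hs⟩
    rw [hyh.eq_bot, AddSubgroup.mem_bot] at this
    exact hm0 this
  · rcases hT (x • h) (D.inv x h hh) with h1 | h1
    · exact h1
    · exfalso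
      have : m ∈ y ⊓ x • h := ⟨hm, hmx⟩
      rw [h1.eq_bot, AddSubgroup.mem_bot] at this
      exact hm0 this

omit [Finite M] in
theorem notle {u w h e : AddSubgroup M} {B : AddSubgroup (M →+ M)} (r : Rt X u w B) (hw : w ∈ E)
    (hh : h ∈ Φ) (hn : ¬ w ≤ h) (he : e ∈ E) (heu : Disjoint e u) (heh : e ≤ h) {β : M →+ M} (hβ : β ∈ B)
    (hβ0 : β ≠ 0) {x : X} (hx : Re x β) : ¬ e ≤ x • h := by
  intro hcon
  obtain ⟨m, hm0⟩ := AddSubgroup.ne_bot_iff_exists_ne_zero.1 (D.ne_bot he)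
  have hm : (m : M) ∈ x • h := hcon m.2
  rw [AddSubgroup.mem_pointwise_smul_iff_inv_smul_mem] at hm
  set s := x⁻¹ • (m : M) with hs
  have h1 : (m : M) = s + β s := by rw [← hx s, hs, smul_inv_smul]
  have h2 : β s ∈ h := by
    have : β s = m - s := by rw [h1]; abel
    rw [this]
    exact h.sub_mem (heh m.2) hm
  have h3 := D.disj hw hh hn (r.ran β hβ s) h2
  have h4 : s ∈ u := by
    by_contra h5
    exact hβ0 (r.k1 β hβ s h3 h5)
  rw [h3, add_zero] at h1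
  rw [← h1] at h4
  have h5 : (m : M) ∈ e ⊓ u := ⟨m.2, h4⟩
  rw [heu.eq_bot, AddSubgroup.mem_bot] at h5
  exact hm0 (Subtype.ext h5)

/-- the set of centres of an axis -/
def YY (X : Type*) {M : Type*} [Group X] [AddCommGroup M] [DistribMulAction X M] (Φ E : Set (AddSubgroup M))
    (h : AddSubgroup M) : Set (AddSubgroup M) := {w | R X Φ E h w}

omit [Finite M] in
theorem ncard_eq {h h' : AddSubgroup M} (hh : h ∈ Φ) (hh' : h' ∈ Φ) :
    (YY X Φ E h).ncard = (YY X Φ E h').ncard := by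
  obtain ⟨x, rfl⟩ := D.trans h hh h' hh'
  have : YY X Φ E (x • h) = (fun w => x • w) '' YY X Φ E h := by
    ext w
    constructor
    · intro hw
      refine ⟨x⁻¹ • w, ?_, smul_inv_smul x w⟩
      have h1 := Cls.R.conj D hw x⁻¹
      rwa [inv_smul_smul] at h1
    · rintro ⟨w, hw, rfl⟩
      exact Cls.R.conj D hw x
  rw [this, Set.ncard_image_of_injective _ (MulAction.injective x)]

/-- (1) -/
theorem adj_symm {h₁ h₂ : AddSubgroup M} (hh₁ : h₁ ∈ Φ) (a : Adj X Φ E h₁ h₂) : Adj X Φ E h₂ h₁ := by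
  by_contra hcon
  obtain ⟨hh₂, w₁, ⟨-, hw₁, B, rB⟩, hn⟩ := a
  have hall : ∀ w, R X Φ E h₂ w → w ≤ h₁ := by
    intro w hw
    by_contra h1
    exact hcon ⟨hh₁, w, hw, h1⟩
  obtain ⟨β, hβ, hβ0⟩ := D.exists_ne hh₁ hw₁ rB
  obtain ⟨b, hb⟩ := rB.ex β hβ
  have hsub : YY X Φ E h₂ ⊆ YY X Φ E h₁ := by
    rintro w₂ hw₂
    have hle := hall w₂ hw₂
    obtain ⟨-, hw₂E, C, rC⟩ := hw₂
    refine ⟨hh₁, hw₂E, C.map (prec β), ?_, ?_, ?_, ?_, ?_, hle⟩
    · rintro _ ⟨δ, hδ, rfl⟩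
      obtain ⟨d, hd⟩ := rC.ex δ hδ
      refine ⟨d * (b * d * b⁻¹), fun m => ?_⟩
      -- `b⁻¹ m = m + β m`
      have hββ : ∀ m, β (β m) = 0 := fun m => rB.k0 β hβ _ (rB.le (rB.ran β hβ m))
      have hδδ : ∀ m, δ (δ m) = 0 := fun m => rC.k0 δ hδ _ (rC.le (rC.ran δ hδ m))
      have hβδ : ∀ m, β (δ m) = 0 := fun m => rB.k0 β hβ _ (hle (rC.ran δ hδ m))
      have hbi : b⁻¹ • m = m + β m := by
        rw [inv_smul_eq_iff, smul_add, hb, hb, hββ, add_zero, add_assoc, D.two, add_zero]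
      rw [mul_smul, mul_smul, mul_smul, hbi, hd (m + β m), map_add, hb (m + β m + (δ m + δ (β m)))]
      simp only [map_add, hββ, hβδ, add_zero]
      rw [hd]
      simp only [map_add, hδδ, add_zero, prec_apply]
      have e1 : m + β m + (δ m + δ (β m)) + β m = m + δ m + δ (β m) := by
        have := D.two (β m)
        calc m + β m + (δ m + δ (β m)) + β m = m + δ m + δ (β m) + (β m + β m) := by abel
          _ = _ := by rw [this, add_zero]
      rw [e1]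
      have e2 : δ m + δ (β m) + δ (β m) = δ m := by rw [add_assoc, D.two, add_zero]
      calc m + δ m + δ (β m) + (δ m + δ (β m) + δ (β m)) = m + δ m + δ (β m) + δ m := by rw [e2]
        _ = m + δ (β m) + (δ m + δ m) := by abel
        _ = m + δ (β m) := by rw [D.two, add_zero]
    · rintro _ ⟨δ, hδ, rfl⟩ m hm
      rw [prec_apply, rB.k0 β hβ m hm, map_zero]
    · rintro _ ⟨δ, hδ, rfl⟩ m hm hmh
      rw [prec_apply] at hm
      have h1 : β m ∉ h₂ := by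
        intro h2
        exact hβ0 (rB.k1 β hβ m (D.disj hw₁ hh₂ hn (rB.ran β hβ m) h2) hmh)
      rw [rC.k1 δ hδ _ hm h1, map_zero]
    · rintro _ ⟨δ, hδ, rfl⟩ m
      exact rC.ran δ hδ _
    · intro m hm r hr
      have h1 : β m ∉ h₂ := by
        intro h2
        exact hβ0 (rB.k1 β hβ m (D.disj hw₁ hh₂ hn (rB.ran β hβ m) h2) hm)
      obtain ⟨δ, hδ, hδr⟩ := rC.ev _ h1 r hr
      exact ⟨_, ⟨δ, hδ, rfl⟩, hδr⟩
  have heq : YY X Φ E h₂ = YY X Φ E h₁ :=
    Set.eq_of_subset_of_ncard_le hsub (D.ncard_eq hh₁ hh₂).le (Set.toFinite _)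
  have hmem : w₁ ∈ YY X Φ E h₂ := by
    rw [heq]
    exact ⟨hh₁, hw₁, B, rB⟩
  obtain ⟨-, -, C, rC⟩ := hmem
  exact hn rC.le

end fin

end Cls

/-- The component of an axis. -/
def Cn (X : Type*) {M : Type*} [Group X] [AddCommGroup M] [DistribMulAction X M] (Φ E : Set (AddSubgroup M)) :
    AddSubgroup M → AddSubgroup M → Prop :=
  Relation.ReflTransGen fun g h => g ∈ Φ ∧ h ∈ Φ ∧ Adj X Φ E g h

theorem Cls.cn_symm [Finite M] {Φ E : Set (AddSubgroup M)} {q : ℕ} (D : Cls X Φ E q) {f g : AddSubgroup M}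
    (h : Cn X Φ E f g) : Cn X Φ E g f := by
  induction h with
  | refl => exact Relation.ReflTransGen.refl
  | tail _ hs ih => exact Relation.ReflTransGen.head ⟨hs.2.1, hs.1, D.adj_symm hs.1 hs.2.2⟩ ih

/-- `O` is a normal 2-subgroup of the pointwise stabiliser of `c`. -/
structure Hyp (Φ E : Set (AddSubgroup M)) (q : ℕ) (c : AddSubgroup M) (O : Subgroup X) : Prop
    extends Cls X Φ E q where
  cc : Nat.card c = q
  Tc : ∀ h ∈ Φ, c ≤ h ∨ Disjoint c h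
  TIc : ∀ w ∈ E, w = c ∨ Disjoint w c
  pO : IsPGroup 2 O
  fixc : ∀ o ∈ O, ∀ m ∈ c, o • m = m
  norm : ∀ s : X, (∀ m ∈ c, s • m = m) → ∀ o ∈ O, s * o * s⁻¹ ∈ O
  fix : ∀ m : M, (∀ s : X, (∀ n ∈ c, s • n = n) → s • m = m) → m ∈ c

/-- `O` contains a root group with axis `f` and centre `v`. -/
structure Tv (Φ E : Set (AddSubgroup M)) (O : Subgroup X) (v f : AddSubgroup M) : Prop where
  mem : f ∈ Φ
  memE : v ∈ E
  ex : ∃ B, Rt X f v B ∧ ∀ β ∈ B, ∃ x ∈ O, Re x β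

theorem Tv.R {Φ E : Set (AddSubgroup M)} {O : Subgroup X} {v f : AddSubgroup M} (h : Tv Φ E O v f) :
    R X Φ E f v := by
  obtain ⟨B, hB, -⟩ := h.ex
  exact ⟨h.mem, h.memE, B, hB⟩

theorem Tv.adj {Φ E : Set (AddSubgroup M)} {O : Subgroup X} {v f g : AddSubgroup M} (h : Tv Φ E O v f)
    (hg : g ∈ Φ) (hn : ¬ v ≤ g) : Adj X Φ E f g := ⟨hg, v, h.R, hn⟩

end Cfsg.Agent.Omega.NOThreeL.LNqBasic
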